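import Cfsg.Agent.H487.CC.PsuGen
import Cfsg.Agent.H162.CC.Tools3
import Cfsg.Agent.H760.StrU3

/-!
# `PSU₃(q)`, `p ∣ q` (helper487, for S3828)
-/

set_option autoImplicit false
set_option linter.unusedSectionVars false
set_option linter.unusedVariables false

namespace Cfsg.Agent.H487.CCPsu3

open Cfsg Matrix
open Cfsg.Agent.LieClassical.HermBasic Cfsg.Agent.LieClassical.HermSiegel Cfsg.Agent.LieClassical.HermGen
open Cfsg.Agent.ClassicalGeometry.PSUAutBasic
open Cfsg.Agent.ClassicalGeometry.PSUAutSylow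
open Cfsg.Agent.ClassicalGeometry.PSUAutPhi Cfsg.Agent.ClassicalGeometry.PSUAutTorus
open Cfsg.Agent.ClassicalGeometry.PSUAutSemi Cfsg.Agent.ClassicalGeometry.PSUAutDelta
open Cfsg.Agent.H358.U3 (smul_of_perp exists_move)
open Cfsg.Agent.H162.CCR
open Cfsg.Agent.H760.StrU3 (zz PP mem_PP isSiegel_congr)

variable {F : Type*} [Field F] [Fintype F] {q : ℕ}

theorem KK_ne_top (hF : Fintype.card F = q ^ 2) {v : Fin 3 → F} (h : St F q v ≠ ⊤) : KK F q v ≠ ⊤ := by
  intro h1
  apply h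
  rw [eq_top_iff]
  intro g _
  have h2 : pr 3 F q g ∈ KK F q v := by rw [h1]; trivial
  exact (pr_mem_KK hF).1 h2

theorem KK_sup {v w : Fin 3 → F} (h : St F q v ⊔ St F q w = ⊤) : KK F q v ⊔ KK F q w = ⊤ := by
  rw [KK, KK, ← Subgroup.map_sup, h, ← MonoidHom.range_eq_map, MonoidHom.range_eq_top.2 pr_surjective]

theorem partner_ne {e f : Fin 3 → F} (he : hermForm 3 F q e e = 0) (hfe : hermForm 3 F q f e = 1) :
    (¬ ∃ c : F, f = c • e) ∧ f ≠ 0 := by
  constructor
  · rintro ⟨c, rfl⟩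
    rw [herm_smul_left, he, mul_zero] at hfe
    exact zero_ne_one hfe
  · rintro rfl
    rw [herm_zero_left] at hfe
    exact zero_ne_one hfe

/-- a nonisotropic line which is orthogonal to a hyperbolic pair -/
theorem exists_non_orth (hF : Fintype.card F = q ^ 2) {e f : Fin 3 → F} (he0 : e ≠ 0)
    (he : hermForm 3 F q e e = 0) (hef : hermForm 3 F q e f = 1) (hff : hermForm 3 F q f f = 0)
    (hfe : hermForm 3 F q f e = 1) :
    ∃ z : Fin 3 → F, hermForm 3 F q z e = 0 ∧ hermForm 3 F q z f = 0 ∧ hermForm 3 F q z z ≠ 0 ∧ St F q z ≠ ⊤ := by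
  obtain ⟨z, hz0, hze, hzf⟩ := exists_perp (q := q) e f
  have hzz : hermForm 3 F q z z ≠ 0 := by
    intro h
    obtain ⟨c, hc⟩ := smul_of_perp hF he0 he h hze
    rw [hc, herm_smul_left, hef, mul_one] at hzf
    rw [hzf, zero_smul] at hc
    exact hz0 hc
  refine ⟨z, hze, hzf, hzz, ?_⟩
  obtain ⟨a, ha⟩ := exists_trace_ne hF
  refine St_non_ne_top hF (w := e + a • f) hzz ?_ ?_
  · rw [herm_add_left, herm_add_right hF, herm_add_right hF, herm_smul_left, herm_smul_left, herm_smul_right,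
      herm_smul_right, he, hff, hef, hfe]
    intro h
    apply ha
    linear_combination h
  · rw [herm_add_left, herm_smul_left, herm_eq_zero_swap hF hze, herm_eq_zero_swap hF hzf, mul_zero, add_zero]

variable {p : ℕ} [hp : Fact p.Prime] {C : Set (PSU 3 F q)}

/-- no transvections -/
theorem no_transv (hF : Fintype.card F = q ^ 2) (hq : 3 ≤ q) (hC : Min p C) (hO : pCore p (PSU 3 F q) = ⊥)
    {e : Fin 3 → F} (he0 : e ≠ 0) (he : hermForm 3 F q e e = 0) {ν : F} (hν : ν + ν ^ q = 0)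
    (h : pr 3 F q (transv hF e he ν hν) ∈ C) : ν = 0 := by
  have hfin : Finite (PSU 3 F q) := Quotient.finite _
  obtain ⟨f, hff, hef, hfe⟩ := exists_partner hF he0 he
  obtain ⟨hne, hf0⟩ := partner_ne he hfe
  by_contra hν0
  have h1 : pr 3 F q (transv hF e he ν hν) ≠ 1 := by
    intro h1
    rw [pr_eq_one_iff] at h1
    obtain ⟨c, hc0, -, hc⟩ := exists_scalar_of_mem_center hF le_rfl h1
    have h2 := hc f
    rw [act_transv, hfe, mul_one] at h2
    have h3 : ν • e = (c - 1) • f := by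
      rw [sub_smul, one_smul, ← h2, add_sub_cancel_left]
    have h4 : hermForm 3 F q (ν • e) f = 0 := by rw [h3, herm_smul_left, hff, mul_zero]
    rw [herm_smul_left, hef, mul_one] at h4
    exact hν0 h4
  obtain ⟨z, hze, hzf, hzz, hzt⟩ := exists_non_orth hF he0 he hef hff hfe
  exact hC.two_overgroups hO h h1 (KK_ne_top hF (St_iso_ne_top hF he0 hf0 he hff hne)) (KK_ne_top hF hzt)
    ((pr_mem_KK hF).2 (transvG_le_St hF he he ⟨ν, hν, rfl⟩)) ((pr_mem_KK hF).2 (transvG_le_St hF he hze ⟨ν, hν, rfl⟩))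
    (KK_sup (sup_iso_non hF hq he0 hf0 he hff hne hzf))

/-- the multiplier -/
theorem exists_mult (hF : Fintype.card F = q ^ 2) (hq : 2 < q) :
    ∃ a : F, a ≠ 0 ∧ (a ^ q * (a ^ q * a⁻¹)) ^ q ≠ a ^ q * (a ^ q * a⁻¹) := by
  by_contra hcon
  push Not at hcon
  obtain ⟨g, hg⟩ := IsCyclic.exists_generator (α := Fˣ)
  have h1 := hcon (g : F) g.ne_zero
  have hg0 : (g : F) ≠ 0 := g.ne_zero
  have h2 : ((g : F) ^ q) ^ 3 = (g : F) ^ 3 := by
    rw [mul_pow, mul_pow, pow_q_pow_q hF, inv_pow] at h1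
    have hgq : (g : F) ^ q ≠ 0 := pow_ne_zero _ hg0
    field_simp at h1
    linear_combination -h1
  have h3 : g ^ (3 * (q - 1)) = 1 := by
    apply Units.ext
    push_cast
    have h4 : (g : F) ^ (3 * (q - 1)) * (g : F) ^ 3 = 1 * (g : F) ^ 3 := by
      rw [← pow_add, one_mul, ← h2, ← pow_mul]
      congr 1
      have : 1 ≤ q := by omega
      zify [this]
      ring
    exact mul_right_cancel₀ (pow_ne_zero 3 hg0) h4
  have h5 : Nat.card Fˣ ∣ 3 * (q - 1) := by
    rw [← orderOf_eq_card_of_forall_mem_zpowers hg]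
    exact orderOf_dvd_of_pow_eq_one h3
  rw [card_units_eq hF] at h5
  have h6 : q + 1 ∣ 3 := Nat.dvd_of_mul_dvd_mul_right (by omega) h5
  have := Nat.le_of_dvd (by norm_num) h6
  omega

/-- the Sylow subgroup -/
theorem exists_sylow_PP [CharP F p] (hF : Fintype.card F = q ^ 2) {e f : Fin 3 → F} (H : IsFrame q e f) :
    ∃ S : Sylow p (PSU 3 F q), (S : Subgroup (PSU 3 F q)) = PP hF H := by
  have hfin : Finite (PSU 3 F q) := Quotient.finite _
  have hq2 := two_le hF
  have hpq : p ∣ q := prime_dvd_q p hF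
  -- the order of `SU₃(q)`
  have hcard : Nat.card (SU 3 F q) = q ^ 3 * ((q ^ 2 - 1) * (q ^ 3 + 1)) := by
    have h1 := Cfsg.Agent.LieClassical.GUOrder.card_GU_eq hF (n := 3) (by norm_num)
    rw [Cfsg.Agent.S0277.result hF 3, Finset.prod_range_succ, Finset.prod_range_succ, Finset.prod_range_one,
      if_pos (by decide), if_neg (by decide), if_pos (by decide)] at h1
    have h2 : (q + 1) * (q ^ 3 * ((q ^ 2 - 1) * (q ^ 3 + 1))) = (q + 1) * Nat.card (SU 3 F q) := by
      rw [← h1]; norm_num; ring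
    exact (Nat.eq_of_mul_eq_mul_left (Nat.succ_pos q) h2).symm
  have hcU : Nat.card (siegG hF e H.ee) = q ^ 3 := by
    have h1 := Cfsg.Agent.H934.IdxPSU.card_siegG hF H
    have h2 := Cfsg.Agent.H667.TwoPSUModel.card_siegG_le hF H
    have h3 : (q ^ 2) ^ (3 - 2) * q = q ^ 3 := by norm_num; ring
    omega
  have hidx : ¬ p ∣ (siegG hF e H.ee).index := by
    have h1 := (siegG hF e H.ee).card_mul_index
    rw [hcU, hcard] at h1
    have h2 : (siegG hF e H.ee).index = (q ^ 2 - 1) * (q ^ 3 + 1) := Nat.eq_of_mul_eq_mul_left (by positivity) h1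
    rw [h2, hp.out.dvd_mul]
    have h3 : p ∣ q ^ 2 := dvd_pow hpq (by norm_num)
    have h4 : p ∣ q ^ 3 := dvd_pow hpq (by norm_num)
    have h5 : 1 ≤ q ^ 2 := Nat.one_le_pow _ _ (by omega)
    have hp1 := hp.out.one_lt
    rintro (h | h)
    · have h6 : p ∣ q ^ 2 - (q ^ 2 - 1) := Nat.dvd_sub h3 h
      have h7 : q ^ 2 - (q ^ 2 - 1) = 1 := by omega
      rw [h7, Nat.dvd_one] at h6
      omega
    · have h6 := (Nat.dvd_add_right h4).1 h
      rw [Nat.dvd_one] at h6
      omega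
  let S0 : Sylow p (SU 3 F q) := (isPGroup_siegG hF p H.ee).toSylow hidx
  exact ⟨S0.mapSurjective (f := pr 3 F q) pr_surjective, rfl⟩

/-- **`p ∣ q`** -/
theorem crow_char [CharP F p] (hF : Fintype.card F = q ^ 2) (hq : 3 ≤ q) (hC : Min p C)
    (hO : pCore p (PSU 3 F q) = ⊥) : ∀ c ∈ C, c = 1 := by
  have hfin : Finite (PSU 3 F q) := Quotient.finite _
  intro c hc
  by_contra hc1
  obtain ⟨e, f, H⟩ := exists_frame (n := 3) hF (by omega)
  have he0 : e ≠ 0 := by
    rintro rfl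
    have := H.ef
    rw [herm_zero_left] at this
    exact zero_ne_one this
  obtain ⟨S, hS⟩ := exists_sylow_PP (p := p) hF H
  obtain ⟨d, hd, hd1, hdS⟩ := hC.exists_mem_sylow hc hc1 S
  rw [hS] at hdS
  obtain ⟨c0, μ, h, rfl⟩ := mem_PP.1 hdS
  by_cases hc0 : c0 = 0
  · -- a transvection
    have h1 : IsSiegel q e 0 μ := isSiegel_congr (by rw [hc0, zero_smul]) h
    have hμ : μ + μ ^ q = 0 := by
      have := h1.tr
      rw [herm_zero_left, add_zero] at this
      exact this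
    have h2 : siegel hF e (c0 • zz F) μ h = transv hF e H.ee μ hμ := by
      unfold transv
      exact siegel_congr hF _ _ rfl (by rw [hc0, zero_smul]) rfl
    rw [h2] at hd hd1
    have h3 := no_transv hF hq hC hO he0 H.ee hμ hd
    apply hd1
    subst h3
    rw [transv_zero, map_one]
  · -- a commutator
    obtain ⟨a, ha, hs⟩ := exists_mult hF (by omega)
    set s := a ^ q * (a ^ q * a⁻¹) with hsdef
    obtain ⟨l, hle, -, hlz, -⟩ := exists_torus_unit hF H single_zero_mem (herm_single_zero hF) ha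
    obtain ⟨h', e1⟩ := conj_siegel_stab hF hle ha h
    have hd' := hC.conj (pr 3 F q l) _ hd
    rw [← map_inv, ← map_mul, ← map_mul, e1] at hd'
    have h2 := hC.comm _ hd _ hd'
    have ew : a ^ q • act l (c0 • zz F) = (s * c0) • zz F := by
      rw [act_smul, hlz, smul_smul, smul_smul, hsdef]
      congr 1
      ring
    have hν0 : c0 * (s * c0) ^ q - s * c0 * c0 ^ q ≠ 0 := by
      have h3 : c0 * (s * c0) ^ q - s * c0 * c0 ^ q = c0 * c0 ^ q * (s ^ q - s) := by
        rw [mul_pow]; ring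
      rw [h3]
      exact mul_ne_zero (mul_ne_zero hc0 (pow_ne_zero _ hc0)) (sub_ne_zero.2 hs)
    have hν : (c0 * (s * c0) ^ q - s * c0 * c0 ^ q) + (c0 * (s * c0) ^ q - s * c0 * c0 ^ q) ^ q = 0 := by
      rw [sub_pow_q hF, mul_pow c0, pow_q_pow_q hF, mul_pow (s * c0), pow_q_pow_q hF]
      ring
    rw [← map_inv, ← map_inv, ← map_mul, ← map_mul, ← map_mul, siegel_inv hF h, siegel_inv hF h'] at h2
    have h3 := Cfsg.Agent.H934.IdxPSU.siegel_comm hF (h.inv hF) (h'.inv hF) hν (by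
      rw [ew, ← neg_smul, ← neg_smul, herm_smul_left, herm_smul_right, herm_smul_left,
        herm_smul_right, herm_single_zero hF, neg_pow_q hF, neg_pow_q hF]
      ring)
    rw [siegel_inv hF, siegel_inv hF] at h3
    have h4 : pr 3 F q (transv hF e H.ee _ hν) ∈ C := by
      rw [← h3]
      convert h2 using 2
      congr 1
      · congr 1
        exact siegel_congr hF _ _ rfl (neg_neg _) (by rw [pow_q_pow_q hF])
      · exact siegel_congr hF _ _ rfl (neg_neg _) (by rw [pow_q_pow_q hF])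
    exact hν0 (no_transv hF hq hC hO he0 H.ee hν h4)

end Cfsg.Agent.H487.CCPsu3
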