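import Cfsg.Agent.H487.CC.PsuGeo

/-!
# `PSU₃(q)`: two stabilisers generate (helper487, for S3828)
-/

set_option autoImplicit false
set_option linter.unusedSectionVars false
set_option linter.unusedVariables false

namespace Cfsg.Agent.H487.CCPsu3

open Cfsg Matrix
open Cfsg.Agent.LieClassical.HermBasic Cfsg.Agent.LieClassical.HermSiegel
open Cfsg.Agent.ClassicalGeometry.PSUAutBasic
open Cfsg.Agent.H358.U3 (smul_of_perp exists_move)

variable {F : Type*} [Field F] [Fintype F] {q : ℕ}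

/-- isotropic vectors which are not proportional are not orthogonal -/
theorem herm_ne (hF : Fintype.card F = q ^ 2) {e x : Fin 3 → F} (he0 : e ≠ 0) (he : hermForm 3 F q e e = 0)
    (hx : hermForm 3 F q x x = 0) (h : ¬ ∃ c : F, x = c • e) : hermForm 3 F q x e ≠ 0 :=
  fun h1 => h (smul_of_perp hF he0 he hx h1)

theorem transvG_le_St (hF : Fintype.card F = q ^ 2) {e : Fin 3 → F} (he : hermForm 3 F q e e = 0) {v : Fin 3 → F}
    (hv : hermForm 3 F q v e = 0) : transvG hF e he ≤ St F q v := by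
  rintro _ ⟨ν, hν, rfl⟩
  refine ⟨1, one_ne_zero, ?_⟩
  rw [act_transv, hv, mul_zero, zero_smul, add_zero, one_smul]

/-- the stabiliser of an isotropic line is transitive on the other ones -/
theorem exists_St (hF : Fintype.card F = q ^ 2) {e x y : Fin 3 → F} (he0 : e ≠ 0) (he : hermForm 3 F q e e = 0)
    (hx : hermForm 3 F q x x = 0) (hy : hermForm 3 F q y y = 0) (hxe : ¬ ∃ c : F, x = c • e)
    (hye : ¬ ∃ c : F, y = c • e) : ∃ g ∈ St F q e, ∃ c : F, c ≠ 0 ∧ act g y = c • x := by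
  have h1 := herm_ne hF he0 he hx hxe
  have h2 := herm_ne hF he0 he hy hye
  set a := hermForm 3 F q x e with ha
  set b := hermForm 3 F q y e with hb
  obtain ⟨g, hg, hgy⟩ := exists_move hF (u := e) (v := b⁻¹ • y) (v' := a⁻¹ • x) he
    (by rw [herm_smul_left, herm_smul_right, hy, mul_zero, mul_zero])
    (by rw [herm_smul_left, herm_smul_right, hx, mul_zero, mul_zero])
    (by rw [herm_smul_left, ← hb, inv_mul_cancel₀ h2]) (by rw [herm_smul_left, ← ha, inv_mul_cancel₀ h1])
  refine ⟨g, ⟨1, one_ne_zero, by rw [hg, one_smul]⟩, b * a⁻¹, mul_ne_zero h2 (inv_ne_zero h1), ?_⟩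
  rw [act_smul] at hgy
  rw [mul_smul, ← hgy, smul_smul, mul_inv_cancel₀ h2, one_smul]

/-- a transvection moving an isotropic line -/
theorem exists_moved (hF : Fintype.card F = q ^ 2) {e f : Fin 3 → F} (he0 : e ≠ 0) (hf0 : f ≠ 0)
    (he : hermForm 3 F q e e = 0) (hf : hermForm 3 F q f f = 0) (hfe : ¬ ∃ c : F, f = c • e) :
    ∃ g ∈ transvG hF f hf, (¬ ∃ c : F, act g e = c • e) ∧ (¬ ∃ c : F, act g e = c • f) := by
  obtain ⟨ν, hν0, hν⟩ := exists_trace_zero_ne hF
  have hef : hermForm 3 F q e f ≠ 0 := by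
    intro h
    exact herm_ne hF he0 he hf hfe (herm_eq_zero_swap hF h)
  refine ⟨transv hF f hf ν hν, ⟨ν, hν, rfl⟩, ?_, ?_⟩
  · rintro ⟨c, hc⟩
    rw [act_transv] at hc
    apply hfe
    refine ⟨(ν * hermForm 3 F q e f)⁻¹ * (c - 1), ?_⟩
    have h1 : (ν * hermForm 3 F q e f) • f = (c - 1) • e := by
      rw [sub_smul, one_smul, ← hc, add_sub_cancel_left]
    rw [mul_smul, ← h1, smul_smul, inv_mul_cancel₀ (mul_ne_zero hν0 hef), one_smul]
  · rintro ⟨c, hc⟩
    rw [act_transv] at hc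
    have h1 : e = (c - ν * hermForm 3 F q e f) • f := by
      rw [sub_smul, ← hc, add_sub_cancel_right]
    apply hef
    rw [h1, herm_smul_left, hf, mul_zero]

/-- **two isotropic lines** -/
theorem sup_iso (hF : Fintype.card F = q ^ 2) (hq : 3 ≤ q) {e f : Fin 3 → F} (he0 : e ≠ 0) (hf0 : f ≠ 0)
    (he : hermForm 3 F q e e = 0) (hf : hermForm 3 F q f f = 0) (hfe : ¬ ∃ c : F, f = c • e) :
    St F q e ⊔ St F q f = ⊤ := by
  have hef : ¬ ∃ c : F, e = c • f := by
    rintro ⟨c, hc⟩
    have hc0 : c ≠ 0 := by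
      rintro rfl
      rw [zero_smul] at hc
      exact he0 hc
    exact hfe ⟨c⁻¹, by rw [hc, smul_smul, inv_mul_cancel₀ hc0, one_smul]⟩
  refine eq_top_of_trans hF hq he0 he ((transvG_le_St hF he he).trans le_sup_left) fun x hx0 hx => ?_
  by_cases hxf : ∃ c : F, x = c • f
  · obtain ⟨g, hg, h1, h2⟩ := exists_moved hF he0 hf0 he hf hfe
    have hgM : g ∈ St F q e ⊔ St F q f := (transvG_le_St hF hf hf).trans le_sup_right hg
    have hiso : hermForm 3 F q (act g e) (act g e) = 0 := by rw [herm_act, he]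
    have hxe : ¬ ∃ c : F, x = c • e := by
      rintro ⟨c, hc⟩
      obtain ⟨d, hd⟩ := hxf
      have hc0 : c ≠ 0 := by
        rintro rfl
        rw [zero_smul] at hc
        exact hx0 hc
      exact hef ⟨c⁻¹ * d, by rw [mul_smul, ← hd, hc, smul_smul, inv_mul_cancel₀ hc0, one_smul]⟩
    obtain ⟨k, hk, c, hc, h3⟩ := exists_St hF he0 he hx hiso hxe h1
    exact ⟨k * g, mul_mem ((le_sup_left : St F q e ≤ _) hk) hgM, c, hc, by rw [act_mul, h3]⟩
  · obtain ⟨k, hk, c, hc, h3⟩ := exists_St hF hf0 hf hx he hxf hef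
    exact ⟨k, (le_sup_right : St F q f ≤ _) hk, c, hc, h3⟩

/-- **an isotropic line and an orthogonal nonisotropic one** -/
theorem sup_iso_non (hF : Fintype.card F = q ^ 2) (hq : 3 ≤ q) {e f z : Fin 3 → F} (he0 : e ≠ 0) (hf0 : f ≠ 0)
    (he : hermForm 3 F q e e = 0) (hf : hermForm 3 F q f f = 0) (hfe : ¬ ∃ c : F, f = c • e)
    (hzf : hermForm 3 F q z f = 0) : St F q e ⊔ St F q z = ⊤ := by
  refine eq_top_of_trans hF hq he0 he ((transvG_le_St hF he he).trans le_sup_left) fun x hx0 hx => ?_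
  by_cases hxe : ∃ c : F, x = c • e
  · obtain ⟨c, hc⟩ := hxe
    have hc0 : c ≠ 0 := by
      rintro rfl
      rw [zero_smul] at hc
      exact hx0 hc
    exact ⟨1, one_mem _, c⁻¹, inv_ne_zero hc0, by rw [act_one, hc, smul_smul, inv_mul_cancel₀ hc0, one_smul]⟩
  · obtain ⟨g, hg, h1, -⟩ := exists_moved hF he0 hf0 he hf hfe
    have hgM : g ∈ St F q e ⊔ St F q z := (transvG_le_St hF hf hzf).trans le_sup_right hg
    have hiso : hermForm 3 F q (act g e) (act g e) = 0 := by rw [herm_act, he]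
    obtain ⟨k, hk, c, hc, h3⟩ := exists_St hF he0 he hx hiso hxe h1
    exact ⟨k * g, mul_mem ((le_sup_left : St F q e ≤ _) hk) hgM, c, hc, by rw [act_mul, h3]⟩

/-- `St e ≠ ⊤` -/
theorem St_iso_ne_top (hF : Fintype.card F = q ^ 2) {e f : Fin 3 → F} (he0 : e ≠ 0) (hf0 : f ≠ 0)
    (he : hermForm 3 F q e e = 0) (hf : hermForm 3 F q f f = 0) (hfe : ¬ ∃ c : F, f = c • e) : St F q e ≠ ⊤ := by
  intro h
  obtain ⟨g, -, h1, -⟩ := exists_moved hF he0 hf0 he hf hfe
  have h2 : g ∈ St F q e := by rw [h]; trivial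
  obtain ⟨c, -, hc⟩ := h2
  exact h1 ⟨c, hc⟩

/-! ### two orthogonal nonisotropic lines -/

theorem linInd_orth {z w : Fin 3 → F} (hz : hermForm 3 F q z z ≠ 0) (hw : hermForm 3 F q w w ≠ 0)
    (hwz : hermForm 3 F q w z = 0) : LinearIndependent F ![z, w] := by
  have hz0 : z ≠ 0 := by
    rintro rfl
    exact hz (herm_zero_left _)
  refine linInd_of hz0 ?_
  rintro ⟨c, rfl⟩
  rw [herm_smul_left] at hwz
  rcases mul_eq_zero.1 hwz with h | h
  · rw [h, zero_smul, herm_zero_left] at hw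
    exact hw rfl
  · exact hz h

theorem exists_third (hF : Fintype.card F = q ^ 2) {z w : Fin 3 → F} (hz : hermForm 3 F q z z ≠ 0)
    (hw : hermForm 3 F q w w ≠ 0) (hwz : hermForm 3 F q w z = 0) :
    ∃ u : Fin 3 → F, hermForm 3 F q u z = 0 ∧ hermForm 3 F q u w = 0 ∧ hermForm 3 F q u u ≠ 0 := by
  obtain ⟨u, hu0, huz, huw⟩ := exists_perp (q := q) z w
  refine ⟨u, huz, huw, fun huu => ?_⟩
  have hzw : hermForm 3 F q z w = 0 := herm_eq_zero_swap hF hwz
  obtain ⟨v, hv⟩ := exists_herm_ne_zero hF hu0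
  -- `v` minus its projections
  set a := hermForm 3 F q v z / hermForm 3 F q z z with ha
  set b := hermForm 3 F q v w / hermForm 3 F q w w with hb
  obtain ⟨c, hc⟩ := line_of_perp hF (linInd_orth hz hw hwz) hu0 huz huw (z' := v - a • z - b • w)
    (by
      rw [herm_sub_left, herm_sub_left, herm_smul_left, herm_smul_left, hwz, mul_zero, sub_zero, ha,
        div_mul_cancel₀ _ hz, sub_self])
    (by
      rw [herm_sub_left, herm_sub_left, herm_smul_left, herm_smul_left, hzw, mul_zero, sub_zero, hb,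
        div_mul_cancel₀ _ hw, sub_self])
  have h1 : hermForm 3 F q (v - a • z - b • w) u = 0 := by
    rw [hc, herm_smul_left, huu, mul_zero]
  rw [herm_sub_left, herm_sub_left, herm_smul_left, herm_smul_left, herm_eq_zero_swap hF huz,
    herm_eq_zero_swap hF huw, mul_zero, mul_zero, sub_zero, sub_zero] at h1
  first
    | exact hv h1
    | exact hv (herm_eq_zero_swap hF h1)

/-- the stabiliser of a nonisotropic line `z` is transitive on the isotropic lines which are not orthogonal to it -/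
theorem exists_St_non (hF : Fintype.card F = q ^ 2) {z x y : Fin 3 → F} (hz : hermForm 3 F q z z ≠ 0)
    (hx : hermForm 3 F q x x = 0) (hy : hermForm 3 F q y y = 0) (hxz : hermForm 3 F q x z ≠ 0)
    (hyz : hermForm 3 F q y z ≠ 0) : ∃ g ∈ St F q z, ∃ c : F, c ≠ 0 ∧ act g y = c • x := by
  have hz0 : z ≠ 0 := by
    rintro rfl
    exact hz (herm_zero_left _)
  set c := hermForm 3 F q y z / hermForm 3 F q x z with hc
  have hc0 : c ≠ 0 := div_ne_zero hyz hxz
  have hxz' : hermForm 3 F q (c • x) z = hermForm 3 F q y z := by rw [herm_smul_left, hc, div_mul_cancel₀ _ hxz]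
  have hxx' : hermForm 3 F q (c • x) (c • x) = 0 := by rw [herm_smul_left, herm_smul_right, hx, mul_zero, mul_zero]
  have hne : ∀ t : Fin 3 → F, hermForm 3 F q t t = 0 → hermForm 3 F q t z ≠ 0 → LinearIndependent F ![z, t] := by
    intro t ht htz
    refine linInd_of hz0 ?_
    rintro ⟨d, rfl⟩
    rw [herm_smul_left, herm_smul_right] at ht
    rcases mul_eq_zero.1 ht with h | h
    · rw [h, zero_smul, herm_zero_left] at htz
      exact htz rfl
    · rcases mul_eq_zero.1 h with h | h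
      · rw [(pow_q_eq_zero hF).1 h, zero_smul, herm_zero_left] at htz
        exact htz rfl
      · exact hz h
  obtain ⟨t, ht0, htz, htx⟩ := exists_perp (q := q) z (c • x)
  have htt : hermForm 3 F q t t ≠ 0 := by
    intro htt
    have hcx0 : c • x ≠ 0 := by
      intro h
      rw [h, herm_zero_left] at hxz'
      exact hyz hxz'.symm
    obtain ⟨d, hd⟩ := smul_of_perp hF hcx0 hxx' htt htx
    rw [hd, herm_smul_left, hxz'] at htz
    rcases mul_eq_zero.1 htz with h | h
    · rw [h, zero_smul] at hd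
      exact ht0 hd
    · exact hyz h
  obtain ⟨g, hg⟩ := Cfsg.Agent.H77.Witt.exists_su_ext hF ![z, y] ![z, c • x] (hne y hy hyz)
    (hne _ hxx' (by rw [hxz']; exact hyz))
    (by
      have h1 : hermForm 3 F q z y = hermForm 3 F q z (c • x) := by
        rw [herm_swap hF y z, herm_swap hF (c • x) z, hxz']
      intro i j
      fin_cases i <;> fin_cases j
      · rfl
      · exact h1
      · exact hxz'.symm
      · change hermForm 3 F q y y = hermForm 3 F q (c • x) (c • x)
        rw [hy, hxx'])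
    htt
    (by
      intro i
      fin_cases i
      · exact htz
      · exact htx)
  exact ⟨g, ⟨1, one_ne_zero, by rw [one_smul]; exact hg 0⟩, c, hc0, hg 1⟩

/-- **two orthogonal nonisotropic lines** -/
theorem sup_non (hF : Fintype.card F = q ^ 2) (hq : 3 ≤ q) {z w : Fin 3 → F} (hz : hermForm 3 F q z z ≠ 0)
    (hw : hermForm 3 F q w w ≠ 0) (hwz : hermForm 3 F q w z = 0) : St F q z ⊔ St F q w = ⊤ := by
  have hzw : hermForm 3 F q z w = 0 := herm_eq_zero_swap hF hwz
  obtain ⟨u, huz, huw, huu⟩ := exists_third hF hz hw hwz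
  have hzu := herm_eq_zero_swap hF huz
  have hwu := herm_eq_zero_swap hF huw
  have hfix := herm_self_pow hF (n := 3)
  -- isotropic vectors
  obtain ⟨γ, hγ⟩ := exists_norm_eq hF (c := -(hermForm 3 F q z z + hermForm 3 F q w w) / hermForm 3 F q u u)
    (by rw [div_pow, neg_pow_q hF, add_pow_q hF, hfix, hfix, hfix])
  obtain ⟨δ, hδ⟩ := exists_norm_eq hF (c := -hermForm 3 F q w w / hermForm 3 F q u u)
    (by rw [div_pow, neg_pow_q hF, hfix, hfix])
  set x₀ : Fin 3 → F := z + w + γ • u with hx₀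
  have hx₀z : hermForm 3 F q x₀ z = hermForm 3 F q z z := by
    rw [hx₀, herm_add_left, herm_add_left, herm_smul_left, hwz, huz]; ring
  have hx₀w : hermForm 3 F q x₀ w = hermForm 3 F q w w := by
    rw [hx₀, herm_add_left, herm_add_left, herm_smul_left, hzw, huw]; ring
  have hx₀u : hermForm 3 F q x₀ u = γ * hermForm 3 F q u u := by
    rw [hx₀, herm_add_left, herm_add_left, herm_smul_left, hzu, hwu]; ring
  have hx₀x : hermForm 3 F q x₀ x₀ = 0 := by
    have h1 : hermForm 3 F q x₀ x₀ = hermForm 3 F q x₀ z + hermForm 3 F q x₀ w + γ ^ q * hermForm 3 F q x₀ u := by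
      conv_lhs => rw [hx₀, herm_add_right hF, herm_add_right hF, herm_smul_right, ← hx₀]
    rw [h1, hx₀z, hx₀w, hx₀u]
    have h2 : γ * γ ^ q * hermForm 3 F q u u = -(hermForm 3 F q z z + hermForm 3 F q w w) := by
      rw [hγ, div_mul_cancel₀ _ huu]
    linear_combination h2
  set e : Fin 3 → F := w + δ • u with he
  have hez : hermForm 3 F q e z = 0 := by
    rw [he, herm_add_left, herm_smul_left, hwz, huz]; ring
  have hew : hermForm 3 F q e w = hermForm 3 F q w w := by
    rw [he, herm_add_left, herm_smul_left, huw]; ring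
  have hee : hermForm 3 F q e e = 0 := by
    have h1 : hermForm 3 F q e e = hermForm 3 F q e w + δ ^ q * hermForm 3 F q e u := by
      conv_lhs => rw [he, herm_add_right hF, herm_smul_right, ← he]
    have h2 : hermForm 3 F q e u = δ * hermForm 3 F q u u := by
      rw [he, herm_add_left, herm_smul_left, hwu]; ring
    rw [h1, hew, h2]
    have h3 : δ * δ ^ q * hermForm 3 F q u u = -hermForm 3 F q w w := by
      rw [hδ, div_mul_cancel₀ _ huu]
    linear_combination h3
  have he0 : e ≠ 0 := by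
    intro h
    rw [h, herm_zero_left] at hew
    exact hw hew.symm
  -- everything is reachable from `x₀`
  have key : ∀ x : Fin 3 → F, x ≠ 0 → hermForm 3 F q x x = 0 →
      ∃ g ∈ St F q z ⊔ St F q w, ∃ c : F, c ≠ 0 ∧ act g x₀ = c • x := by
    intro x hx0 hx
    by_cases h1 : hermForm 3 F q x z = 0
    · by_cases h2 : hermForm 3 F q x w = 0
      · exfalso
        have hu0 : u ≠ 0 := by
          rintro rfl
          exact huu (herm_zero_left _)
        obtain ⟨c, hc⟩ := line_of_perp hF (linInd_orth hz hw hwz) hu0 huz huw h1 h2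
        rw [hc, herm_smul_left, herm_smul_right] at hx
        have hc0 : c ≠ 0 := by
          rintro rfl
          rw [zero_smul] at hc
          exact hx0 hc
        exact mul_ne_zero hc0 (mul_ne_zero (pow_ne_zero q hc0) huu) hx
      · obtain ⟨g, hg, h3⟩ := exists_St_non hF hw hx hx₀x h2 (by rw [hx₀w]; exact hw)
        exact ⟨g, (le_sup_right : St F q w ≤ _) hg, h3⟩
    · obtain ⟨g, hg, h3⟩ := exists_St_non hF hz hx hx₀x h1 (by rw [hx₀z]; exact hz)
      exact ⟨g, (le_sup_left : St F q z ≤ _) hg, h3⟩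
  obtain ⟨g₀, hg₀, c₀, hc₀, h₀⟩ := key e he0 hee
  refine eq_top_of_trans hF hq he0 hee ((transvG_le_St hF hee (herm_eq_zero_swap hF hez)).trans le_sup_left)
    fun x hx0 hx => ?_
  obtain ⟨g, hg, c, hc, h1⟩ := key x hx0 hx
  refine ⟨g * g₀⁻¹, mul_mem hg (inv_mem hg₀), c₀⁻¹ * c, mul_ne_zero (inv_ne_zero hc₀) hc, ?_⟩
  have h2 : act g₀⁻¹ e = c₀⁻¹ • x₀ := by
    have h3 : act g₀⁻¹ (act g₀ x₀) = act g₀⁻¹ (c₀ • e) := by rw [h₀]
    rw [act_inv_act, act_smul] at h3
    rw [h3, smul_smul, inv_mul_cancel₀ hc₀, one_smul]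
  rw [act_mul, h2, act_smul, h1, smul_smul]

/-- `St z ≠ ⊤` -/
theorem St_non_ne_top (hF : Fintype.card F = q ^ 2) {z w : Fin 3 → F} (hz : hermForm 3 F q z z ≠ 0)
    (hw : hermForm 3 F q w w ≠ 0) (hwz : hermForm 3 F q w z = 0) : St F q z ≠ ⊤ := by
  intro h
  have hzw : hermForm 3 F q z w = 0 := herm_eq_zero_swap hF hwz
  have hfix := herm_self_pow hF (n := 3)
  obtain ⟨γ, hγ⟩ := exists_norm_eq hF (c := hermForm 3 F q z z / hermForm 3 F q w w)
    (by rw [div_pow, hfix, hfix])
  have hγ0 : γ ≠ 0 := by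
    rintro rfl
    rw [zero_mul] at hγ
    exact div_ne_zero hz hw hγ.symm
  have hz0 : z ≠ 0 := by
    rintro rfl
    exact hz (herm_zero_left _)
  have hw0 : w ≠ 0 := by
    rintro rfl
    exact hw (herm_zero_left _)
  have hww : hermForm 3 F q (γ • w) (γ • w) = hermForm 3 F q z z := by
    rw [herm_smul_left, herm_smul_right, ← mul_assoc, hγ, div_mul_cancel₀ _ hw]
  obtain ⟨g, hg⟩ := Cfsg.Agent.H77.Witt.exists_su_ext hF ![z] ![γ • w] (linearIndependent_unique_iff.2 hz0)
    (linearIndependent_unique_iff.2 (smul_ne_zero hγ0 hw0))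
    (by
      intro i j
      fin_cases i
      fin_cases j
      exact hww.symm)
    hz
    (by
      intro i
      fin_cases i
      change hermForm 3 F q z (γ • w) = 0
      rw [herm_smul_right, hzw, mul_zero])
  have h2 : g ∈ St F q z := by rw [h]; trivial
  obtain ⟨c, hc0, hc⟩ := h2
  have h3 : act g z = γ • w := hg 0
  have h4 : hermForm 3 F q (c • z) z = 0 := by
    rw [← hc, h3, herm_smul_left, hwz, mul_zero]
  rw [herm_smul_left] at h4
  exact mul_ne_zero hc0 hz h4

end Cfsg.Agent.H487.CCPsu3
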