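import Cfsg.Agent.H487.CC.QuadRoot
import Cfsg.Agent.H760.StrU3
import Cfsg.Agent.H358.UThreeB
import Cfsg.Agent.H77.Witt
import Cfsg.Agent.S0780
import Cfsg.Agent.H242.StrP.FCUni

/-!
# `PSU₃(q)`: stabilisers of lines and generation (helper487, for S3828)
-/

set_option autoImplicit false
set_option linter.unusedSectionVars false
set_option linter.unusedVariables false

namespace Cfsg.Agent.H487.CCPsu3

open Cfsg Matrix
open Cfsg.Agent.LieClassical.HermBasic Cfsg.Agent.LieClassical.HermSiegel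
open Cfsg.Agent.ClassicalGeometry.PSUAutBasic
open Cfsg.Agent.H358.U3 (smul_of_perp)

variable {F : Type*} [Field F] [Fintype F] {q : ℕ}

/-! ### Linear algebra -/

/-- a vector orthogonal to two given vectors -/
theorem exists_perp (x y : Fin 3 → F) :
    ∃ z : Fin 3 → F, z ≠ 0 ∧ hermForm 3 F q z x = 0 ∧ hermForm 3 F q z y = 0 := by
  let L : (Fin 3 → F) →ₗ[F] (Fin 2 → F) :=
    { toFun := fun z => ![hermForm 3 F q z x, hermForm 3 F q z y]
      map_add' := fun a b => by
        rw [herm_add_left, herm_add_left]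
        simp
      map_smul' := fun c a => by
        rw [herm_smul_left, herm_smul_left]
        simp }
  have h1 : LinearMap.ker L ≠ ⊥ := LinearMap.ker_ne_bot_of_finrank_lt (by simp)
  obtain ⟨z, hz, hz0⟩ := (Submodule.ne_bot_iff _).1 h1
  have h2 : L z = 0 := hz
  exact ⟨z, hz0, congrFun h2 0, congrFun h2 1⟩

theorem dot_conj (z x : Fin 3 → F) : (fun i => x i ^ q) ⬝ᵥ z = hermForm 3 F q z x := by
  rw [herm_def, dotProduct]
  exact Finset.sum_congr rfl fun i _ => mul_comm _ _

/-- the vectors orthogonal to two independent vectors form a line -/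
theorem line_of_perp (hF : Fintype.card F = q ^ 2) {x y z z' : Fin 3 → F} (h : LinearIndependent F ![x, y])
    (hz0 : z ≠ 0) (hzx : hermForm 3 F q z x = 0) (hzy : hermForm 3 F q z y = 0)
    (hzx' : hermForm 3 F q z' x = 0) (hzy' : hermForm 3 F q z' y = 0) : ∃ c : F, z' = c • z := by
  set X : Fin 3 → F := fun i => x i ^ q with hX
  set Y : Fin 3 → F := fun i => y i ^ q with hY
  have hXY : LinearIndependent F ![X, Y] := by
    rw [LinearIndependent.pair_iff] at h ⊢
    intro s t hst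
    have h1 : s ^ q • x + t ^ q • y = 0 := by
      funext i
      have h2 := congrFun hst i
      rw [Pi.add_apply, Pi.smul_apply, Pi.smul_apply, Pi.zero_apply, smul_eq_mul, smul_eq_mul] at h2 ⊢
      rw [← pow_q_eq_zero hF, add_pow_q hF, mul_pow, mul_pow, pow_q_pow_q hF, pow_q_pow_q hF]
      exact h2
    obtain ⟨h2, h3⟩ := h _ _ h1
    exact ⟨(pow_q_eq_zero hF).1 h2, (pow_q_eq_zero hF).1 h3⟩
  have hn : X ⨯₃ Y ≠ 0 := crossProduct_ne_zero_iff_linearIndependent.2 hXY
  have key : ∀ w : Fin 3 → F, hermForm 3 F q w x = 0 → hermForm 3 F q w y = 0 → ∃ a : F, w = a • (X ⨯₃ Y) := by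
    intro w hwx hwy
    have h1 : X ⨯₃ Y ⨯₃ w = 0 := by
      rw [cross_cross_eq_smul_sub_smul, dot_conj, dot_conj, hwx, hwy, zero_smul, zero_smul, sub_zero]
    have h2 : ¬ LinearIndependent F ![X ⨯₃ Y, w] := fun h3 => crossProduct_ne_zero_iff_linearIndependent.2 h3 h1
    rw [LinearIndependent.pair_iff' hn] at h2
    push Not at h2
    obtain ⟨a, ha⟩ := h2
    exact ⟨a, ha.symm⟩
  obtain ⟨a, ha⟩ := key z hzx hzy
  obtain ⟨b, hb⟩ := key z' hzx' hzy'
  have ha0 : a ≠ 0 := by
    rintro rfl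
    rw [zero_smul] at ha
    exact hz0 ha
  exact ⟨b / a, by rw [ha, hb, smul_smul, div_mul_cancel₀ _ ha0]⟩

theorem linInd_of {x y : Fin 3 → F} (hx : x ≠ 0) (h : ¬ ∃ c : F, y = c • x) : LinearIndependent F ![x, y] := by
  rw [LinearIndependent.pair_iff' hx]
  intro a ha
  exact h ⟨a, ha.symm⟩

/-! ### Stabilisers of lines -/

/-- the stabiliser of the line of `v` -/
def St (F : Type*) [Field F] [Fintype F] (q : ℕ) (v : Fin 3 → F) : Subgroup (SU 3 F q) where
  carrier := {g | ∃ c : F, c ≠ 0 ∧ act g v = c • v}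
  one_mem' := ⟨1, one_ne_zero, by rw [act_one, one_smul]⟩
  mul_mem' := by
    rintro a b ⟨c, hc, h⟩ ⟨d, hd, h'⟩
    exact ⟨d * c, mul_ne_zero hd hc, by rw [act_mul, h', act_smul, h, smul_smul]⟩
  inv_mem' := by
    rintro a ⟨c, hc, h⟩
    refine ⟨c⁻¹, inv_ne_zero hc, ?_⟩
    have h1 : act a⁻¹ (act a v) = act a⁻¹ (c • v) := by rw [h]
    rw [act_inv_act, act_smul] at h1
    have h2 : c⁻¹ • v = c⁻¹ • (c • act a⁻¹ v) := by rw [← h1]
    rw [h2, smul_smul, inv_mul_cancel₀ hc, one_smul]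

theorem mem_St {v : Fin 3 → F} {g : SU 3 F q} : g ∈ St F q v ↔ ∃ c : F, c ≠ 0 ∧ act g v = c • v := Iff.rfl

theorem mem_St_of {v : Fin 3 → F} (hv : v ≠ 0) {g : SU 3 F q} {c : F} (h : act g v = c • v) : g ∈ St F q v := by
  refine ⟨c, ?_, h⟩
  rintro rfl
  rw [zero_smul, act_eq_zero] at h
  exact hv h

theorem center_le_St (hF : Fintype.card F = q ^ 2) (v : Fin 3 → F) : Subgroup.center (SU 3 F q) ≤ St F q v := by
  intro z hz
  obtain ⟨c, hc, -, h⟩ := exists_scalar_of_mem_center hF le_rfl hz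
  exact ⟨c, hc, h v⟩

/-- its image in `PSU₃(q)` -/
def KK (F : Type*) [Field F] [Fintype F] (q : ℕ) (v : Fin 3 → F) : Subgroup (PSU 3 F q) := (St F q v).map (pr 3 F q)

theorem pr_mem_KK (hF : Fintype.card F = q ^ 2) {v : Fin 3 → F} {g : SU 3 F q} : pr 3 F q g ∈ KK F q v ↔ g ∈ St F q v := by
  constructor
  · rintro ⟨h, hh, he⟩
    obtain ⟨z, hz, rfl⟩ := exists_center_mul he
    exact mul_mem hh (center_le_St hF v hz)
  · intro h
    exact ⟨g, h, rfl⟩

/-! ### Generation -/

/-- a subgroup of `SU₃(q)` which is transitive on the isotropic lines and contains a transvection group is everything -/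
theorem eq_top_of_trans (hF : Fintype.card F = q ^ 2) (hq : 3 ≤ q) {M : Subgroup (SU 3 F q)} {e : Fin 3 → F} (he0 : e ≠ 0)
    (he : hermForm 3 F q e e = 0) (hM : transvG hF e he ≤ M)
    (htr : ∀ x : Fin 3 → F, x ≠ 0 → hermForm 3 F q x x = 0 → ∃ g ∈ M, ∃ c : F, c ≠ 0 ∧ act g e = c • x) : M = ⊤ := by
  rw [eq_top_iff, ← Cfsg.Agent.S0780.result hF 3 le_rfl (by omega), Subgroup.closure_le]
  rintro A ⟨v, c, hv, hA⟩
  by_cases hv0 : v = 0
  · have h1 : A = 1 := by
      apply mat_injective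
      rw [mat_one]
      change ((A : Matrix.SpecialLinearGroup (Fin 3) F) : Matrix (Fin 3) (Fin 3) F) = 1
      rw [hA, hv0]
      simp [unitaryTransvection]
    rw [h1]
    exact M.one_mem
  -- the action
  have hact : ∀ x, act A x = x + (c * hermForm 3 F q x v) • v := by
    intro x
    rw [act_def]
    change ((A : Matrix.SpecialLinearGroup (Fin 3) F) : Matrix (Fin 3) (Fin 3) F) *ᵥ x = _
    rw [hA, unitaryTransvection, Matrix.add_mulVec, Matrix.one_mulVec, Matrix.smul_mulVec]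
    funext i
    simp only [Pi.add_apply, Pi.smul_apply, smul_eq_mul, Matrix.mulVec, Matrix.vecMulVec_apply, dotProduct, herm_def]
    rw [Finset.mul_sum, Finset.mul_sum, Finset.sum_mul]
    congr 1
    exact Finset.sum_congr rfl fun j _ => by ring
  obtain ⟨g, hg, d, hd, hgv⟩ := htr v hv0 hv
  -- the conjugate by `g`
  have hc : c + c ^ q = 0 ∨ A = 1 := by
    obtain ⟨f, hff, hvf, hfv⟩ := Cfsg.Agent.ClassicalGeometry.PSUAutSylow.exists_partner hF hv0 hv
    left
    have h1 := herm_act A f f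
    rw [hact, hfv, mul_one, herm_add_left, herm_add_right hF, herm_add_right hF, herm_smul_left, herm_smul_right,
      herm_smul_left, herm_smul_right, hv, hff, hfv, hvf] at h1
    linear_combination h1
  rcases hc with hc | hc
  swap
  · rw [hc]; exact M.one_mem
  have hν : (c * (d⁻¹ * (d⁻¹) ^ q)) + (c * (d⁻¹ * (d⁻¹) ^ q)) ^ q = 0 := by
    rw [mul_pow, norm_pow_q hF, ← add_mul, hc, zero_mul]
  have h1 : g⁻¹ * A * g ∈ M := by
    apply hM
    refine mem_transvG.2 ⟨_, hν, ?_⟩
    apply ext_act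
    intro x
    have hgi : act g⁻¹ v = d⁻¹ • e := by
      have h2 : act g⁻¹ (act g e) = act g⁻¹ (d • v) := by rw [hgv]
      rw [act_inv_act, act_smul] at h2
      rw [h2, smul_smul, inv_mul_cancel₀ hd, one_smul]
    rw [act_transv, act_mul, act_mul, hact, act_add, act_inv_act, act_smul, hgi, smul_smul]
    congr 2
    have h3 : hermForm 3 F q (act g x) v = hermForm 3 F q x e * (d⁻¹) ^ q := by
      rw [herm_act_left, hgi, herm_smul_right]
      ring
    rw [h3]
    ring
  have h2 := M.mul_mem (M.mul_mem hg h1) (M.inv_mem hg)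
  have h3 : g * (g⁻¹ * A * g) * g⁻¹ = A := by group
  rwa [h3] at h2

end Cfsg.Agent.H487.CCPsu3
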