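import Cfsg.Agent.LieClassical.HermBasic

/-!
# Quadratic polynomials over the subfield of index two have roots (helper487, for S3828)
-/

set_option autoImplicit false

namespace Cfsg.Agent.H487.CCPsu3

open Cfsg Cfsg.Agent.LieClassical.HermBasic

variable {F : Type*} [Field F] [Fintype F] {q : ℕ}

/-- **Artin-Schreier equations** in characteristic two. -/
theorem exists_as (hF : Fintype.card F = q ^ 2) (h2 : (2 : F) = 0) {c : F} (hc : c ^ q = c) :
    ∃ y : F, y * y + y = c := by
  have hneg : ∀ x : F, -x = x := fun x => by
    have : x + x = 0 := by rw [← two_mul, h2, zero_mul]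
    exact (eq_neg_of_add_eq_zero_left this).symm
  have hxx : ∀ x : F, x + x = 0 := fun x => by rw [← two_mul, h2, zero_mul]
  have h1 : (1 : F) ^ q = 1 := one_pow q
  -- the subfield as additive group
  let K : AddSubgroup F :=
    { carrier := {x | x ^ q = x}
      zero_mem' := zero_pow_q hF
      add_mem' := fun {a b} ha hb => by
        change (a + b) ^ q = a + b
        rw [add_pow_q hF, ha, hb]
      neg_mem' := fun {a} ha => by
        change (-a) ^ q = -a
        rw [neg_pow_q hF, ha] }
  have hK : ∀ x : F, x ∈ K ↔ x ^ q = x := fun x => Iff.rfl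
  let f : K →+ K :=
    { toFun := fun y => ⟨(y : F) * y + y, by
        rw [hK, add_pow_q hF, mul_pow, (hK _).1 y.2]⟩
      map_zero' := by
        apply Subtype.ext
        simp
      map_add' := fun a b => by
        apply Subtype.ext
        change ((a : F) + b) * (a + b) + (a + b) = (a * a + a) + (b * b + b)
        linear_combination (a : F) * b * h2 }
  -- the kernel has order two
  have hker : Nat.card f.ker = 2 := by
    have hone : (1 : F) ∈ K := h1
    have h3 : ((f.ker : AddSubgroup K) : Set K) = {0, ⟨1, hone⟩} := by
      ext y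
      rw [SetLike.mem_coe, AddMonoidHom.mem_ker, Set.mem_insert_iff, Set.mem_singleton_iff]
      constructor
      · intro h
        have h4 : (y : F) * y + y = 0 := congrArg Subtype.val h
        have h5 : (y : F) * (y + 1) = 0 := by linear_combination h4
        rcases mul_eq_zero.1 h5 with h6 | h6
        · exact Or.inl (Subtype.ext h6)
        · right
          apply Subtype.ext
          change (y : F) = 1
          rw [eq_neg_of_add_eq_zero_left h6, hneg]
      · rintro (h | h)
        · rw [h, map_zero]
        · rw [h]
          apply Subtype.ext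
          change (1 : F) * 1 + 1 = 0
          rw [mul_one, hxx]
    have h4 : Nat.card f.ker = ((f.ker : AddSubgroup K) : Set K).ncard := rfl
    rw [h4, h3, Set.ncard_pair]
    intro h
    exact zero_ne_one (congrArg Subtype.val h : (0 : F) = 1)
  have hidx : f.range.index = 2 := by
    have h3 : Nat.card f.ker * Nat.card f.range = Nat.card K := by
      rw [mul_comm]
      have := AddSubgroup.card_eq_card_quotient_mul_card_addSubgroup f.ker
      rw [Nat.card_congr (QuotientAddGroup.quotientKerEquivRange f).toEquiv] at this
      exact this.symm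
    have h4 := f.range.card_mul_index
    have h5 : 0 < Nat.card f.range := Nat.card_pos
    rw [hker] at h3
    have h6 : Nat.card f.range * f.range.index = Nat.card f.range * 2 := by rw [h4, ← h3, mul_comm]
    exact Nat.eq_of_mul_eq_mul_left h5 h6
  obtain ⟨θ, hθ⟩ := exists_trace_eq hF h1
  have hθq : θ ^ q = θ + 1 := by
    have h3 : θ ^ q = 1 - θ := by linear_combination hθ
    rw [h3, sub_eq_add_neg, hneg, add_comm]
  have hθK : θ * θ + θ ∈ K := by
    rw [hK, add_pow_q hF, mul_pow, hθq]
    linear_combination (θ + 1) * h2
  have hθn : (⟨θ * θ + θ, hθK⟩ : K) ∉ f.range := by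
    rintro ⟨y, hy⟩
    have h3 : (y : F) * y + y = θ * θ + θ := congrArg Subtype.val hy
    have h4 : ((y : F) + θ) * (y + θ + 1) = 0 := by
      linear_combination h3 + (θ * θ + θ + y * θ) * h2
    have hyq := (hK _).1 y.2
    rcases mul_eq_zero.1 h4 with h5 | h5
    · have h6 : θ = y := by
        rw [← hneg (y : F)]
        linear_combination h5
      rw [← h6] at hyq
      rw [hθq] at hyq
      exact one_ne_zero (by linear_combination hyq : (1 : F) = 0)
    · have h6 : θ = y + 1 := by
        linear_combination h5 - (y + 1 : F) * h2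
      rw [h6, add_pow_q hF, hyq, h1] at hθq
      exact one_ne_zero (by linear_combination -hθq : (1 : F) = 0)
  by_cases hcr : (⟨c, hc⟩ : K) ∈ f.range
  · obtain ⟨y, hy⟩ := hcr
    exact ⟨y, congrArg Subtype.val hy⟩
  · have h3 := (AddSubgroup.add_mem_iff_of_index_two hidx (a := (⟨c, hc⟩ : K)) (b := ⟨θ * θ + θ, hθK⟩)).2
      (by simp only [hcr, hθn])
    obtain ⟨y, hy⟩ := h3
    have h4 : (y : F) * y + y = c + (θ * θ + θ) := congrArg Subtype.val hy
    refine ⟨y + θ, ?_⟩
    linear_combination h4 + (y * θ + θ * θ + θ) * h2

/-- **Quadratic polynomials over the fixed field.** -/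
theorem quad_root (hF : Fintype.card F = q ^ 2) {t n : F} (ht : t ^ q = t) (hn : n ^ q = n) :
    ∃ x : F, x * x - t * x - n = 0 := by
  classical
  by_cases h2 : (2 : F) = 0
  · have hneg : ∀ x : F, -x = x := fun x => by
      have : x + x = 0 := by rw [← two_mul, h2, zero_mul]
      exact (eq_neg_of_add_eq_zero_left this).symm
    by_cases ht0 : t = 0
    · have hc : ringChar F = 2 := by
        have h3 : ((2 : ℕ) : F) = 0 := by exact_mod_cast h2
        have h4 := ringChar.dvd h3
        rcases (Nat.dvd_prime Nat.prime_two).1 h4 with h5 | h5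
        · exact absurd h5 (CharP.ringChar_ne_one)
        · exact h5
      obtain ⟨x, hx⟩ := FiniteField.isSquare_of_char_two hc n
      exact ⟨x, by rw [ht0, zero_mul, sub_zero, hx, sub_self]⟩
    · obtain ⟨y, hy⟩ := exists_as hF h2 (c := n / (t * t)) (by rw [div_pow, mul_pow, ht, hn])
      refine ⟨t * y, ?_⟩
      have h3 : t * t * (n / (t * t)) = n := by field_simp
      linear_combination (t * t) * hy - (t * t * y) * h2 + h3
  · have h2q : (2 : F) ^ q = 2 := by
      have : (2 : F) = 1 + 1 := by norm_num
      rw [this, add_pow_q hF, one_pow]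
    set D : F := t * t + 4 * n with hD
    have hDq : D ^ q = D := by
      have h4 : (4 : F) ^ q = 4 := by
        have : (4 : F) = 2 * 2 := by norm_num
        rw [this, mul_pow, h2q]
      rw [hD, add_pow_q hF, mul_pow, mul_pow, ht, hn, h4]
    obtain ⟨s, hs⟩ : ∃ s : F, s * s = D := by
      by_cases hD0 : D = 0
      · exact ⟨0, by rw [hD0, mul_zero]⟩
      have hc : ringChar F ≠ 2 := by
        intro h
        apply h2
        have h3 : ((ringChar F : ℕ) : F) = 0 := ringChar.Nat.cast_ringChar
        rw [h] at h3
        exact_mod_cast h3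
      have hodd : Odd (Fintype.card F) := by
        rw [← Nat.not_even_iff_odd]
        intro h
        exact hc (FiniteField.even_card_iff_char_two.2 (Nat.even_iff.1 h))
      have hqodd : Odd q := by
        rw [hF] at hodd
        exact (Nat.odd_pow_iff two_ne_zero).1 hodd
      have hq2 := two_le hF
      have hD1 : D ^ (q - 1) = 1 := by
        have h3 : D ^ (q - 1) * D = 1 * D := by
          rw [← pow_succ, Nat.sub_add_cancel (by omega), hDq, one_mul]
        exact mul_right_cancel₀ hD0 h3
      have h3 : Fintype.card F / 2 = (q - 1) * ((q + 1) / 2) := by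
        obtain ⟨k, rfl⟩ := hqodd
        rw [hF]
        have e1 : (2 * k + 1 + 1) / 2 = k + 1 := by omega
        have e2 : (2 * k + 1) ^ 2 = 2 * ((2 * k) * (k + 1)) + 1 := by ring
        rw [e1, e2]
        have e3 : 2 * k + 1 - 1 = 2 * k := by omega
        rw [e3]
        omega
      obtain ⟨s, hs⟩ := (FiniteField.isSquare_iff hc hD0).2 (by rw [h3, pow_mul, hD1, one_pow])
      exact ⟨s, hs.symm⟩
    refine ⟨(t + s) / 2, ?_⟩
    field_simp
    linear_combination hs

end Cfsg.Agent.H487.CCPsu3
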